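import Cfsg.Agent.S3157

/-!
# The two maximal elementary abelian subgroups of a Sylow 2-subgroup of `PSL₃(4)` and their
normalisers
-/

set_option autoImplicit false

namespace CfsgLib.PSLThreeFour

open Matrix CfsgLib.Linear
open Cfsg.Agent.S3157 (Uni)

/-- The group. -/
abbrev SL34 := Matrix.SpecialLinearGroup (Fin 3) GF4

/-- The simple group. -/
abbrev L34 := Matrix.ProjectiveSpecialLinearGroup (Fin 3) GF4

theorem gf4_facts : (∀ a : GF4, a ≠ 0 → a * a * a = 1) ∧ (∀ a : GF4, a + a = 0) ∧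
    (∀ a : GF4, -a = a) ∧ (∀ r : GF4, r * r = 1 → r = 1) := by
  decide +kernel

/-- The projection. -/
noncomputable def proj : SL34 →* L34 :=
  QuotientGroup.mk' (Subgroup.center SL34)

theorem proj_surjective : Function.Surjective proj := QuotientGroup.mk'_surjective _

theorem exists_scalar {g h : SL34} (e : proj g = proj h) :
    ∃ r : GF4, (g : Matrix (Fin 3) (Fin 3) GF4) = r • (h : Matrix (Fin 3) (Fin 3) GF4) := by
  have h1 : h⁻¹ * g ∈ Subgroup.center SL34 := (QuotientGroup.eq_one_iff _).1 (by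
    show proj (h⁻¹ * g) = 1
    rw [map_mul, map_inv, e, inv_mul_cancel])
  obtain ⟨r, -, hr⟩ := Matrix.SpecialLinearGroup.mem_center_iff.1 h1
  refine ⟨r, ?_⟩
  have h2 : (g : Matrix (Fin 3) (Fin 3) GF4) =
      (h : Matrix (Fin 3) (Fin 3) GF4) * ((h⁻¹ * g : SL34) : Matrix (Fin 3) (Fin 3) GF4) := by
    show g.1 = (h * (h⁻¹ * g) : SL34).1
    rw [mul_inv_cancel_left]
  rw [h2, ← hr]
  refine Matrix.ext fun i j => ?_
  simp [Matrix.mul_apply, Matrix.scalar_apply, Matrix.diagonal, mul_comm]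

theorem proj_eq_of_smul {g h : SL34} {r : GF4}
    (e : (g : Matrix (Fin 3) (Fin 3) GF4) = r • (h : Matrix (Fin 3) (Fin 3) GF4)) :
    proj g = proj h := by
  have h1 : h⁻¹ * g ∈ Subgroup.center SL34 := by
    rw [Subgroup.mem_center_iff]
    intro x
    apply Subtype.ext
    show x.1 * (h⁻¹ * g : SL34).1 = (h⁻¹ * g : SL34).1 * x.1
    have h2 : (h⁻¹ * g : SL34).1 = r • 1 := by
      show (h⁻¹ : SL34).1 * g.1 = _
      rw [e, Matrix.mul_smul]
      show r • (h⁻¹ * h : SL34).1 = _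
      rw [inv_mul_cancel]
      rfl
    rw [h2, Matrix.mul_smul, Matrix.smul_mul, Matrix.mul_one, Matrix.one_mul]
  have h3 : proj (h⁻¹ * g) = 1 := (QuotientGroup.eq_one_iff _).2 h1
  rw [map_mul, map_inv, inv_mul_eq_one] at h3
  exact h3.symm

theorem uni_val (x : Uni) :
    (Uni.toSL x : Matrix (Fin 3) (Fin 3) GF4) = !![1, x.a, x.c; 0, 1, x.b; 0, 0, 1] := rfl

theorem toPSL_eq (x : Uni) : Uni.toPSL x = proj (Uni.toSL x) := rfl

/-- The Sylow subgroup. -/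
noncomputable def sylow0 : Subgroup L34 := Uni.toPSL.range

/-- The first elementary abelian subgroup. -/
noncomputable def planeA : Subgroup L34 where
  carrier := {g | ∃ x : Uni, x.b = 0 ∧ Uni.toPSL x = g}
  one_mem' := ⟨1, rfl, map_one _⟩
  mul_mem' := by
    rintro _ _ ⟨x, hx, rfl⟩ ⟨y, hy, rfl⟩
    exact ⟨x * y, by show x.b + y.b = 0; rw [hx, hy, add_zero], map_mul _ _ _⟩
  inv_mem' := by
    rintro _ ⟨x, hx, rfl⟩
    exact ⟨x⁻¹, by show -x.b = 0; rw [hx, neg_zero], map_inv _ _⟩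

/-- The second elementary abelian subgroup. -/
noncomputable def planeB : Subgroup L34 where
  carrier := {g | ∃ x : Uni, x.a = 0 ∧ Uni.toPSL x = g}
  one_mem' := ⟨1, rfl, map_one _⟩
  mul_mem' := by
    rintro _ _ ⟨x, hx, rfl⟩ ⟨y, hy, rfl⟩
    exact ⟨x * y, by show x.a + y.a = 0; rw [hx, hy, add_zero], map_mul _ _ _⟩
  inv_mem' := by
    rintro _ ⟨x, hx, rfl⟩
    exact ⟨x⁻¹, by show -x.a = 0; rw [hx, neg_zero], map_inv _ _⟩

theorem planeA_le : planeA ≤ sylow0 := by rintro _ ⟨x, -, rfl⟩; exact ⟨x, rfl⟩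

theorem planeB_le : planeB ≤ sylow0 := by rintro _ ⟨x, -, rfl⟩; exact ⟨x, rfl⟩

theorem uni_mul (x y : Uni) : x * y = ⟨x.a + y.a, x.b + y.b, x.c + y.c + x.a * y.b⟩ := rfl

theorem card_planeA : Nat.card planeA = 16 := by
  rw [← Nat.card_congr (Equiv.ofBijective
    (fun p : GF4 × GF4 => (⟨Uni.toPSL ⟨p.1, 0, p.2⟩, ⟨_, rfl, rfl⟩⟩ : planeA)) ⟨?_, ?_⟩),
    Nat.card_prod, Nat.card_eq_fintype_card, card_gf4]
  · rintro ⟨a, c⟩ ⟨a', c'⟩ h
    have h1 := Uni.toPSL_injective (congrArg Subtype.val h :)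
    exact Prod.ext (congrArg Uni.a h1) (congrArg Uni.c h1)
  · rintro ⟨_, ⟨a, b, c⟩, hb, rfl⟩
    change b = 0 at hb
    subst hb
    exact ⟨(a, c), rfl⟩

theorem card_planeB : Nat.card planeB = 16 := by
  rw [← Nat.card_congr (Equiv.ofBijective
    (fun p : GF4 × GF4 => (⟨Uni.toPSL ⟨0, p.1, p.2⟩, ⟨_, rfl, rfl⟩⟩ : planeB)) ⟨?_, ?_⟩),
    Nat.card_prod, Nat.card_eq_fintype_card, card_gf4]
  · rintro ⟨a, c⟩ ⟨a', c'⟩ h
    have h1 := Uni.toPSL_injective (congrArg Subtype.val h :)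
    exact Prod.ext (congrArg Uni.b h1) (congrArg Uni.c h1)
  · rintro ⟨_, ⟨a, b, c⟩, ha, rfl⟩
    change a = 0 at ha
    subst ha
    exact ⟨(b, c), rfl⟩

/-- The elementary abelian subgroups of order 16 of the Sylow subgroup. -/
theorem plane_cases (W : Subgroup L34) (hW : W ≤ sylow0) (he : ∀ w ∈ W, w * w = 1)
    (hc : Nat.card W = 16) : W = planeA ∨ W = planeB := by
  have key : ∀ x : Uni, Uni.toPSL x ∈ W → x.a = 0 ∨ x.b = 0 := by
    intro x hx
    have h1 := he _ hx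
    rw [← map_mul, ← map_one Uni.toPSL] at h1
    have h2 : x.c + x.c + x.a * x.b = 0 := congrArg Uni.c (Uni.toPSL_injective h1)
    rw [gf4_facts.2.1, zero_add] at h2
    exact mul_eq_zero.1 h2
  by_cases hA : W ≤ planeA
  · exact Or.inl (Subgroup.eq_of_le_of_card_ge hA (by rw [card_planeA, hc]))
  · refine Or.inr (Subgroup.eq_of_le_of_card_ge ?_ (by rw [card_planeB, hc]))
    obtain ⟨w, hw, hwA⟩ := SetLike.not_le_iff_exists.1 hA
    obtain ⟨x, rfl⟩ := hW hw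
    have hxb : x.b ≠ 0 := fun h => hwA ⟨x, h, rfl⟩
    have hxa : x.a = 0 := (key x hw).resolve_right hxb
    intro u hu
    obtain ⟨y, rfl⟩ := hW hu
    refine ⟨y, ?_, rfl⟩
    by_contra hya
    have hyb : y.b = 0 := (key y hu).resolve_left hya
    have h1 := key (x * y) (by rw [map_mul]; exact mul_mem hw hu)
    rw [uni_mul] at h1
    change x.a + y.a = 0 ∨ x.b + y.b = 0 at h1
    rw [hxa, zero_add, hyb, add_zero] at h1
    exact h1.elim hya hxb

theorem center_sylow0 (g : L34) (hg : g ∈ sylow0) (h : ∀ u ∈ sylow0, g * u = u * g) :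
    g ∈ planeA ⊓ planeB := by
  obtain ⟨x, rfl⟩ := hg
  have h1 := h _ ⟨(⟨1, 0, 0⟩ : Uni), rfl⟩
  have h2 := h _ ⟨(⟨0, 1, 0⟩ : Uni), rfl⟩
  rw [← map_mul, ← map_mul] at h1 h2
  have e1 : x.c + 0 + x.a * 0 = 0 + x.c + 1 * x.b := congrArg Uni.c (Uni.toPSL_injective h1)
  have e2 : x.c + 0 + x.a * 1 = 0 + x.c + 0 * x.b := congrArg Uni.c (Uni.toPSL_injective h2)
  simp only [mul_zero, one_mul, zero_add, add_zero, mul_one, zero_mul] at e1 e2
  exact ⟨⟨x, left_eq_add.1 e1, rfl⟩, ⟨x, add_eq_left.1 e2, rfl⟩⟩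

theorem sylow0_le_sup : sylow0 ≤ planeA ⊔ planeB := by
  rintro _ ⟨x, rfl⟩
  have e : x = (⟨x.a, 0, x.c + x.a * x.b⟩ : Uni) * ⟨0, x.b, 0⟩ := by
    rw [uni_mul]
    refine Uni.ext' (add_zero _).symm (zero_add _).symm ?_
    show x.c = x.c + x.a * x.b + 0 + x.a * x.b
    rw [add_zero, add_assoc, gf4_facts.2.1, add_zero]
  rw [e, map_mul]
  exact Subgroup.mul_mem_sup ⟨_, rfl, rfl⟩ ⟨_, rfl, rfl⟩

theorem dual_dual (N : Matrix (Fin 3) (Fin 3) GF4) (h : N.det = 1) :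
    ((N.adjugate.transpose.submatrix Fin.revPerm Fin.revPerm).adjugate).transpose.submatrix
      Fin.revPerm Fin.revPerm = N := by
  rw [Matrix.adjugate_submatrix_equiv_self, Matrix.adjugate_transpose N, Matrix.adjugate_adjugate _
    (by simp), Matrix.det_transpose, h, one_pow, one_smul]
  refine Matrix.ext fun i j => ?_
  simp

/-- Transpose-inverse with the order of the basis reversed. -/
noncomputable def dualSL : SL34 ≃* SL34 :=
  MulEquiv.mk'
    { toFun := fun g => ⟨((g⁻¹ : SL34).1.transpose).submatrix Fin.revPerm Fin.revPerm, by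
        rw [Matrix.det_submatrix_equiv_self, Matrix.det_transpose]
        exact (g⁻¹ : SL34).2⟩
      invFun := fun g => ⟨((g⁻¹ : SL34).1.transpose).submatrix Fin.revPerm Fin.revPerm, by
        rw [Matrix.det_submatrix_equiv_self, Matrix.det_transpose]
        exact (g⁻¹ : SL34).2⟩
      left_inv := fun g => Subtype.ext (dual_dual g.1 g.2)
      right_inv := fun g => Subtype.ext (dual_dual g.1 g.2) }
    fun g h => Subtype.ext (by
      show ((g * h)⁻¹ : SL34).1.transpose.submatrix Fin.revPerm Fin.revPerm =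
        (g⁻¹ : SL34).1.transpose.submatrix Fin.revPerm Fin.revPerm *
          (h⁻¹ : SL34).1.transpose.submatrix Fin.revPerm Fin.revPerm
      rw [_root_.mul_inv_rev, show ((h⁻¹ * g⁻¹ : SL34)).1 = (h⁻¹ : SL34).1 * (g⁻¹ : SL34).1 from rfl,
        Matrix.transpose_mul, Matrix.submatrix_mul_equiv])

theorem dualSL_uni (x : Uni) : dualSL (Uni.toSL x) = Uni.toSL ⟨x.b, x.a, x.c + x.a * x.b⟩ := by
  apply Subtype.ext
  show ((Uni.toSL x)⁻¹ : SL34).1.transpose.submatrix Fin.revPerm Fin.revPerm = _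
  rw [← map_inv, uni_val, uni_val, show x⁻¹ = (⟨-x.a, -x.b, -x.c + x.a * x.b⟩ : Uni) from rfl,
    gf4_facts.2.2.1, gf4_facts.2.2.1, gf4_facts.2.2.1]
  refine Matrix.ext fun i j => ?_
  fin_cases i <;> fin_cases j <;> rfl

/-- The automorphism of the simple group. -/
noncomputable def dualPSL : L34 ≃* L34 := pslCongr dualSL

theorem dualPSL_uni (x : Uni) :
    dualPSL (Uni.toPSL x) = Uni.toPSL ⟨x.b, x.a, x.c + x.a * x.b⟩ := by
  rw [toPSL_eq, toPSL_eq, ← dualSL_uni]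
  rfl

theorem map_dualPSL_sylow0 : sylow0.map dualPSL.toMonoidHom = sylow0 := by
  refine Subgroup.eq_of_le_of_card_ge ?_ ?_
  · rintro _ ⟨_, ⟨x, rfl⟩, rfl⟩
    exact ⟨_, (dualPSL_uni x).symm⟩
  · exact (Subgroup.card_map_of_injective (f := dualPSL.toMonoidHom) dualPSL.injective).ge

theorem map_dualPSL_planeB : planeB.map dualPSL.toMonoidHom = planeA := by
  refine Subgroup.eq_of_le_of_card_ge ?_ ?_
  · rintro _ ⟨_, ⟨x, hx, rfl⟩, rfl⟩
    exact ⟨⟨x.b, x.a, x.c + x.a * x.b⟩, hx, (dualPSL_uni x).symm⟩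
  · exact ((Subgroup.card_map_of_injective (f := dualPSL.toMonoidHom) dualPSL.injective).trans
      (card_planeB.trans card_planeA.symm)).ge

/-- The Levi subgroup. -/
noncomputable def levi : Matrix.SpecialLinearGroup (Fin 2) GF4 →* SL34 :=
  MonoidHom.mk' (fun M => ⟨!![1, 0, 0; 0, M.1 0 0, M.1 0 1; 0, M.1 1 0, M.1 1 1], by
      have h := M.2
      rw [Matrix.det_fin_two] at h
      simp [Matrix.det_fin_three]
      exact h⟩)
    fun M N => Subtype.ext (by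
      show _ = (!![1, 0, 0; 0, M.1 0 0, M.1 0 1; 0, M.1 1 0, M.1 1 1] :
          Matrix (Fin 3) (Fin 3) GF4) * !![1, 0, 0; 0, N.1 0 0, N.1 0 1; 0, N.1 1 0, N.1 1 1]
      refine Matrix.ext fun i j => ?_
      fin_cases i <;> fin_cases j <;> simp [Matrix.mul_apply, Fin.sum_univ_three, Fin.sum_univ_two])

/-- Into the simple group. -/
noncomputable def leviP : Matrix.SpecialLinearGroup (Fin 2) GF4 →* L34 := proj.comp levi

theorem levi_val (M : Matrix.SpecialLinearGroup (Fin 2) GF4) :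
    (levi M : Matrix (Fin 3) (Fin 3) GF4) = !![1, 0, 0; 0, M.1 0 0, M.1 0 1; 0, M.1 1 0, M.1 1 1] :=
  rfl

theorem leviP_mem_planeA {M : Matrix.SpecialLinearGroup (Fin 2) GF4} (h : leviP M ∈ planeA) :
    M = 1 := by
  obtain ⟨x, hb, hx⟩ := h
  obtain ⟨r, hr⟩ := exists_scalar (hx.symm : proj (levi M) = proj (Uni.toSL x))
  rw [levi_val, uni_val] at hr
  have e00 := congrFun (congrFun hr 0) 0
  simp at e00
  have e11 := congrFun (congrFun hr 1) 1
  have e12 := congrFun (congrFun hr 1) 2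
  have e21 := congrFun (congrFun hr 2) 1
  have e22 := congrFun (congrFun hr 2) 2
  simp [← e00, hb] at e11 e12 e21 e22
  apply Subtype.ext
  refine Matrix.ext fun i j => ?_
  fin_cases i <;> fin_cases j <;> simp [e11, e12, e21, e22]

theorem leviP_injective : Function.Injective leviP :=
  (MonoidHom.ker_eq_bot_iff leviP).1 (eq_bot_iff.2 fun M hM => by
    rw [MonoidHom.mem_ker] at hM
    exact leviP_mem_planeA (hM ▸ one_mem planeA))

theorem levi_uni (M : Matrix.SpecialLinearGroup (Fin 2) GF4) (a c : GF4) :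
    levi M * Uni.toSL ⟨a, 0, c⟩ =
      Uni.toSL ⟨a * M.1 1 1 + c * M.1 1 0, 0, a * M.1 0 1 + c * M.1 0 0⟩ * levi M := by
  have h := M.2
  rw [Matrix.det_fin_two] at h
  have h2 : ∀ u v : GF4, u - v = u + v := fun u v => by rw [sub_eq_add_neg, gf4_facts.2.2.1]
  rw [h2] at h
  apply Subtype.ext
  show (!![1, 0, 0; 0, M.1 0 0, M.1 0 1; 0, M.1 1 0, M.1 1 1] : Matrix (Fin 3) (Fin 3) GF4) *
    !![1, a, c; 0, 1, 0; 0, 0, 1] =
    (!![1, a * M.1 1 1 + c * M.1 1 0, a * M.1 0 1 + c * M.1 0 0; 0, 1, 0; 0, 0, 1] :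
      Matrix (Fin 3) (Fin 3) GF4) * !![1, 0, 0; 0, M.1 0 0, M.1 0 1; 0, M.1 1 0, M.1 1 1]
  refine Matrix.ext fun i j => ?_
  fin_cases i <;> fin_cases j <;> simp [Matrix.mul_apply, Fin.sum_univ_three]
  · have e : (a * M.1 1 1 + c * M.1 1 0) * M.1 0 0 + (a * M.1 0 1 + c * M.1 0 0) * M.1 1 0 =
        a * (M.1 0 0 * M.1 1 1 + M.1 0 1 * M.1 1 0) + (c * M.1 0 0 * M.1 1 0 + c * M.1 0 0 * M.1 1 0) := by
      ring
    rw [e, h, gf4_facts.2.1, mul_one, add_zero]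
  · have e : (a * M.1 1 1 + c * M.1 1 0) * M.1 0 1 + (a * M.1 0 1 + c * M.1 0 0) * M.1 1 1 =
        c * (M.1 0 0 * M.1 1 1 + M.1 0 1 * M.1 1 0) + (a * M.1 0 1 * M.1 1 1 + a * M.1 0 1 * M.1 1 1) := by
      ring
    rw [e, h, gf4_facts.2.1, mul_one, add_zero]

theorem mem_normalizer_of_conj_le {G : Type*} [Group G] [Finite G] {W : Subgroup G} {g : G}
    (h : ∀ w ∈ W, g * w * g⁻¹ ∈ W) : g ∈ Subgroup.normalizer (W : Set G) := by
  have hle : W.map (MulAut.conj g).toMonoidHom ≤ W := by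
    rintro _ ⟨w, hw, rfl⟩; exact h w hw
  have heq := Subgroup.eq_of_le_of_card_ge hle
    (le_of_eq (Subgroup.card_map_of_injective (MulAut.conj g).injective).symm)
  rw [Subgroup.mem_normalizer_iff]
  refine fun w => ⟨h w, fun hw => ?_⟩
  rw [← heq] at hw
  obtain ⟨v, hv, e⟩ := hw
  exact (MulAut.conj g).injective e ▸ hv

theorem leviP_normalizes (M : Matrix.SpecialLinearGroup (Fin 2) GF4) :
    leviP M ∈ Subgroup.normalizer (planeA : Set L34) := by
  refine mem_normalizer_of_conj_le ?_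
  rintro _ ⟨⟨a, b, c⟩, hb, rfl⟩
  change b = 0 at hb
  subst hb
  refine ⟨⟨a * M.1 1 1 + c * M.1 1 0, 0, a * M.1 0 1 + c * M.1 0 0⟩, rfl, ?_⟩
  rw [toPSL_eq, toPSL_eq, eq_mul_inv_iff_mul_eq]
  show proj _ * proj (levi M) = proj (levi M) * proj _
  rw [← map_mul, ← map_mul, levi_uni]

/-- Conjugation by the Levi subgroup is transitive on nontrivial elements. -/
theorem exists_levi_conj (v : GF4 × GF4) (hv : v ≠ 0) :
    ∃ M, leviP M * Uni.toPSL ⟨1, 0, 0⟩ * (leviP M)⁻¹ = Uni.toPSL ⟨v.1, 0, v.2⟩ := by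
  obtain ⟨M, h1, h2⟩ : ∃ M : Matrix.SpecialLinearGroup (Fin 2) GF4, M.1 1 1 = v.1 ∧ M.1 0 1 = v.2 := by
    by_cases ha : v.1 = 0
    · have hc : v.2 ≠ 0 := fun h => hv (Prod.ext ha h)
      exact ⟨⟨!![0, v.2; v.2⁻¹, v.1], by
        rw [Matrix.det_fin_two]; simp [hc, gf4_facts.2.2.1]⟩, rfl, rfl⟩
    · exact ⟨⟨!![v.1⁻¹, v.2; 0, v.1], by rw [Matrix.det_fin_two]; simp [ha]⟩, rfl, rfl⟩
  refine ⟨M, ?_⟩
  rw [mul_inv_eq_iff_eq_mul, toPSL_eq, toPSL_eq]
  show proj (levi M) * proj _ = proj _ * proj (levi M)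
  rw [← map_mul, ← map_mul, levi_uni, h1, h2]
  simp

theorem isLevi_complement : ∀ g ∈ Subgroup.normalizer (planeA : Set L34),
    ∃ M, ∃ u ∈ planeA, g = leviP M * u := by
  intro g hg
  obtain ⟨g, rfl⟩ := proj_surjective g
  have hu : Uni.toPSL ⟨1, 0, 0⟩ ∈ planeA := ⟨_, rfl, rfl⟩
  obtain ⟨⟨a, b, c⟩, hb, hy⟩ := (Subgroup.mem_normalizer_iff.1 hg _).1 hu
  change b = 0 at hb
  subst hb
  rw [eq_mul_inv_iff_mul_eq, toPSL_eq, toPSL_eq, ← map_mul, ← map_mul] at hy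
  obtain ⟨r, hr⟩ := exists_scalar hy.symm
  change g.1 * !![1, 1, 0; 0, 1, 0; 0, 0, 1] = r • ((!![1, a, c; 0, 1, 0; 0, 0, 1] :
    Matrix (Fin 3) (Fin 3) GF4) * g.1) at hr
  have hcol : g.1 1 0 = 0 ∧ g.1 2 0 = 0 := by
    have e10 := congrFun (congrFun hr 1) 0
    have e11 := congrFun (congrFun hr 1) 1
    have e20 := congrFun (congrFun hr 2) 0
    have e21 := congrFun (congrFun hr 2) 1
    simp [Matrix.mul_apply, Matrix.vecMul, dotProduct, Fin.sum_univ_three] at e10 e11 e20 e21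
    by_cases hr1 : r = 1
    · subst hr1
      rw [one_mul] at e11 e21
      exact ⟨add_eq_right.1 e11, add_eq_right.1 e21⟩
    · refine ⟨?_, ?_⟩
      · by_contra hne
        exact hr1 ((mul_eq_right₀ hne).1 e10.symm)
      · by_contra hne
        exact hr1 ((mul_eq_right₀ hne).1 e20.symm)
  obtain ⟨h10, h20⟩ := hcol
  have hdet := g.2
  rw [Matrix.det_fin_three, h10, h20] at hdet
  simp only [mul_zero, zero_mul, add_zero, sub_zero] at hdet
  set α := g.1 0 0 with hα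
  have hα0 : α ≠ 0 := by
    intro h
    rw [h] at hdet
    simp at hdet
  have hα3 := gf4_facts.1 α hα0
  refine ⟨⟨!![α⁻¹ * g.1 1 1, α⁻¹ * g.1 1 2; α⁻¹ * g.1 2 1, α⁻¹ * g.1 2 2], ?_⟩,
    Uni.toPSL ⟨α⁻¹ * g.1 0 1, 0, α⁻¹ * g.1 0 2⟩, ⟨_, rfl, rfl⟩, ?_⟩
  · rw [Matrix.det_fin_two]
    simp
    field_simp
    calc g.1 1 1 * g.1 2 2 - g.1 1 2 * g.1 2 1
        = (α * α * α) * (g.1 1 1 * g.1 2 2 - g.1 1 2 * g.1 2 1) := by rw [hα3, one_mul]
      _ = α * α * (α * g.1 1 1 * g.1 2 2 - α * g.1 1 2 * g.1 2 1) := by ring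
      _ = α ^ 2 := by rw [hdet]; ring
  · rw [toPSL_eq]
    show proj g = proj (levi _) * proj _
    rw [← map_mul]
    refine proj_eq_of_smul (r := α) ?_
    show g.1 = α • ((!![1, 0, 0; 0, α⁻¹ * g.1 1 1, α⁻¹ * g.1 1 2; 0, α⁻¹ * g.1 2 1, α⁻¹ * g.1 2 2] :
      Matrix (Fin 3) (Fin 3) GF4) * !![1, α⁻¹ * g.1 0 1, α⁻¹ * g.1 0 2; 0, 1, 0; 0, 0, 1])
    refine Matrix.ext fun i j => ?_
    fin_cases i <;> fin_cases j <;>
      simp [Matrix.mul_apply, Fin.sum_univ_three, h10, h20, hα0, ← hα]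

end CfsgLib.PSLThreeFour
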